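import Mathlib.RingTheory.Ideal.AssociatedPrime.Basic
import Mathlib.RingTheory.Ideal.MinimalPrime.Localization
import Mathlib.RingTheory.Ideal.GoingUp

/-!
# Minimal primes over annihilators of elements
-/

set_option autoImplicit false

universe u v

namespace AssPointLib

variable (R : Type u) [CommRing R] {M : Type v} [AddCommGroup M] [Module R M]

/-- The annihilator of an element. -/
abbrev ann (m : M) : Ideal R := LinearMap.ker (LinearMap.toSpanSingleton R M m)

theorem mem_ann {m : M} {r : R} : r ∈ ann R m ↔ r • m = 0 := Iff.rfl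

theorem ann_eq_colon (m : M) : ann R m = (⊥ : Submodule R M).colon {m} := by
  ext r; simp [Submodule.mem_colon_singleton]

theorem ann_eq_annihilator_span (m : M) : ann R m = (Submodule.span R {m}).annihilator := by
  ext r; simp [Submodule.mem_annihilator_span_singleton]

variable {R}

theorem minimal_iff {I p : Ideal R} [hp : p.IsPrime] :
    p ∈ I.minimalPrimes ↔ I ≤ p ∧ ∀ a ∈ p, ∃ t, t ∉ p ∧ ∃ n : ℕ, t * a ^ n ∈ I := by
  constructor
  · intro h
    refine ⟨h.le, fun a ha => ?_⟩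
    by_contra hc
    simp only [not_exists, not_and] at hc
    let S : Submonoid R := p.primeCompl ⊔ Submonoid.powers a
    have hd : Disjoint (I : Set R) (S : Set R) := by
      rw [Set.disjoint_left]
      intro x hxI hxS
      obtain ⟨t, ht, _, ⟨n, rfl⟩, rfl⟩ := Submonoid.mem_sup.mp hxS
      exact hc t ht n hxI
    obtain ⟨q, hq, hIq, hqd⟩ := Ideal.exists_le_prime_disjoint I S hd
    have hqp : q ≤ p := fun x hx => by
      by_contra hxp
      exact Set.disjoint_left.mp hqd hx (Submonoid.mem_sup_left (show x ∈ p.primeCompl from hxp))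
    exact Set.disjoint_left.mp hqd (h.2 ⟨hq, hIq⟩ hqp ha)
      (Submonoid.mem_sup_right (Submonoid.mem_powers a))
  · rintro ⟨hI, h⟩
    refine ⟨⟨hp, hI⟩, fun q hq hqp a ha => ?_⟩
    obtain ⟨t, ht, n, htn⟩ := h a ha
    haveI := hq.1
    exact hq.1.mem_of_pow_mem n ((hq.1.mem_or_mem (hq.2 htn)).resolve_left fun h => ht (hqp h))

/-- Finitely generated primes minimal over an annihilator are associated. -/
theorem isAssociatedPrime_of_fg {p : Ideal R} [p.IsPrime] (hfg : p.FG) {m : M}
    (h : p ∈ (ann R m).minimalPrimes) : IsAssociatedPrime p M := by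
  classical
  obtain ⟨hle, hex⟩ := minimal_iff.mp h
  obtain ⟨F, hF⟩ := hfg
  choose t ht n hn using fun a : F => hex a.1 (hF ▸ Ideal.subset_span a.2)
  let T := ∏ a : F, t a
  have hT : T ∉ p := fun hT => by
    obtain ⟨a, -, ha⟩ := Ideal.IsPrime.prod_mem_iff.mp hT
    exact ht a ha
  refine ⟨‹_›, T • m, le_antisymm ?_ fun c hc => ?_⟩
  · refine hF.symm.trans_le (Ideal.span_le.mpr fun a ha => ⟨n ⟨a, ha⟩, ?_⟩)
    rw [Submodule.mem_colon_singleton, Submodule.mem_bot, smul_smul]
    obtain ⟨d, hd⟩ := Finset.dvd_prod_of_mem t (Finset.mem_univ (⟨a, ha⟩ : F))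
    rw [show a ^ n ⟨a, ha⟩ * T = d * (t ⟨a, ha⟩ * a ^ n ⟨a, ha⟩) by
      simp only [T]; rw [hd]; ring, mul_smul, (mem_ann R).mp (hn ⟨a, ha⟩), smul_zero]
  · obtain ⟨k, hk⟩ := hc
    rw [Submodule.mem_colon_singleton, Submodule.mem_bot, smul_smul] at hk
    exact Ideal.IsPrime.mem_of_pow_mem inferInstance k
      ((Ideal.IsPrime.mem_or_mem inferInstance (hle hk)).resolve_right hT)

theorem minimal_of_isAssociatedPrime {p : Ideal R} (h : IsAssociatedPrime p M) :
    ∃ m : M, p ∈ (ann R m).minimalPrimes := by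
  obtain ⟨hp, m, hm⟩ := h
  refine ⟨m, ⟨hp, ?_⟩, fun q hq _ => ?_⟩
  · rw [hm, ann_eq_colon]; exact Ideal.le_radical
  · rw [hm, ← ann_eq_colon]; exact hq.1.radical_le_iff.mpr hq.2

variable {B : Type u} [CommRing B] [Algebra R B]

/-- Over a finite fibre of an integral extension, minimal primes over annihilators descend. -/
theorem comap_minimal_of_integral {N : Type v} [AddCommGroup N] [Module B N] [Algebra.IsIntegral R B]
    {Q : Ideal B} [hQ : Q.IsPrime] {m : N} (h : Q ∈ (ann B m).minimalPrimes)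
    (hfin : {P : Ideal B | P.IsPrime ∧ P.comap (algebraMap R B) = Q.comap (algebraMap R B)}.Finite) :
    ∃ m' : N, Q.comap (algebraMap R B) ∈ ((ann B m').comap (algebraMap R B)).minimalPrimes := by
  classical
  obtain ⟨hle, hex⟩ := minimal_iff.mp h
  let F := (hfin.toFinset).erase Q
  have hb : ∀ P : F, ∃ b, b ∈ Q ∧ b ∉ (P : Ideal B) := by
    rintro ⟨P, hP⟩
    obtain ⟨hne, hP⟩ := Finset.mem_erase.mp hP
    obtain ⟨hPp, hPe⟩ := hfin.mem_toFinset.mp hP
    by_contra hc
    simp only [not_exists, not_and, not_not] at hc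
    rcases (show Q ≤ P from hc).lt_or_eq with hlt | heq
    · obtain ⟨x, hxP, hxQ⟩ := SetLike.exists_of_lt hlt
      exact (Ideal.comap_lt_comap_of_integral_mem_sdiff (R := R) hlt.le ⟨hxP, hxQ⟩
        (Algebra.IsIntegral.isIntegral x)).ne hPe.symm
    · exact hne heq.symm
  choose b hbQ hbP using hb
  choose t ht n hn using fun P : F => hex (b P) (hbQ P)
  have hT : (∏ P : F, t P) ∉ Q := fun hT => by
    obtain ⟨a, -, ha⟩ := Ideal.IsPrime.prod_mem_iff.mp hT
    exact ht a ha
  refine ⟨(∏ P : F, t P) • m, ⟨inferInstance, Ideal.comap_mono fun c hc => ?_⟩, fun q hq hqQ => ?_⟩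
  · rw [mem_ann, smul_smul] at hc
    exact (hQ.mem_or_mem (hle hc)).resolve_right hT
  · haveI := hq.1
    obtain ⟨P, hP, hPp, hPq⟩ := Ideal.exists_ideal_over_prime_of_isIntegral q _ hq.2
    obtain ⟨P', hP', hP'p, hP'q⟩ := Ideal.exists_ideal_over_prime_of_isIntegral_of_isPrime
      (Q.comap (algebraMap R B)) P (hPq.trans_le hqQ)
    have hbs : ∀ i : F, b i ∈ P' := fun i => by
      refine hP'p.mem_of_pow_mem (n i) (hP' (hP ?_))
      rw [mem_ann, smul_smul]
      obtain ⟨d, hd⟩ := Finset.dvd_prod_of_mem t (Finset.mem_univ i)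
      rw [show b i ^ n i * (∏ P : F, t P) = d * (t i * b i ^ n i) by rw [hd]; ring, mul_smul,
        (mem_ann B).mp (hn i), smul_zero]
    have hPQ : P' = Q := by
      by_contra hne
      exact hbP ⟨P', Finset.mem_erase.mpr ⟨hne, hfin.mem_toFinset.mpr ⟨hP'p, hP'q⟩⟩⟩
        (hbs ⟨P', _⟩)
    subst hPQ
    have hann : ann B m ≤ P := fun c hc => hP (by
      rw [mem_ann, smul_comm, (mem_ann B).mp hc, smul_zero])
    rw [← hPq]
    exact Ideal.comap_mono (h.2 ⟨hPp, hann⟩ hP')

end AssPointLib
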