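import Groth.Prelude.Def_CurvBase
import Groth.Agent.AssPointLib.Alg
import Groth.Agent.DevissLib.Stalk
import Groth.Agent.QCohLib.AffineFinite
import Mathlib.RingTheory.Ideal.AssociatedPrime.Finiteness

/-!
# Weakly associated points of quasi-coherent modules
-/

set_option autoImplicit false

universe u

open CategoryTheory CategoryTheory.Limits AlgebraicGeometry TopologicalSpace Opposite DevissLib

namespace AssPointLib

variable {X : Scheme.{u}}

theorem mem_basicOpen_iff {U : X.Opens} (hU : IsAffineOpen U) {x : X} (hx : x ∈ U) (r : Γ(X, U)) :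
    x ∈ X.basicOpen r ↔ r ∉ (hU.primeIdealOf ⟨x, hx⟩).asIdeal := by
  have e := hU.fromSpec_primeIdealOf ⟨x, hx⟩
  have h' : hU.primeIdealOf ⟨x, hx⟩ ∈ hU.fromSpec ⁻¹ᵁ X.basicOpen r ↔ x ∈ X.basicOpen r := by
    change hU.fromSpec (hU.primeIdealOf ⟨x, hx⟩) ∈ X.basicOpen r ↔ _
    rw [e]
  rw [← h', hU.fromSpec_preimage_basicOpen]
  rfl

theorem isUnit_germ {U : X.Opens} (hU : IsAffineOpen U) {x : X} (hx : x ∈ U) {r : Γ(X, U)}
    (hr : r ∉ (hU.primeIdealOf ⟨x, hx⟩).asIdeal) : IsUnit (X.presheaf.germ U x hx r) :=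
  (X.mem_basicOpen r x hx).mp ((mem_basicOpen_iff hU hx r).mpr hr)

theorem germ_mem_maximal {U : X.Opens} (hU : IsAffineOpen U) {x : X} (hx : x ∈ U) {a : Γ(X, U)}
    (ha : a ∈ (hU.primeIdealOf ⟨x, hx⟩).asIdeal) :
    X.presheaf.germ U x hx a ∈ IsLocalRing.maximalIdeal (X.presheaf.stalk x) := fun h =>
  ((mem_basicOpen_iff hU hx a).mp ((X.mem_basicOpen a x hx).mpr h)) ha

/-- Every element of the stalk is, up to a unit, the germ of a section over a given affine open. -/
theorem exists_smul_eq_gm {M : X.Modules} [Coh.IsQCoh M] {U : X.Opens} (hU : IsAffineOpen U) {x : X}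
    (hx : x ∈ U) (a : (St x).obj M) : ∃ (v : X.presheaf.stalk x) (s : Γ(M, U)),
      IsUnit v ∧ v • a = gm M x hx s := by
  obtain ⟨W, hxW, t, rfl⟩ := exists_gm_eq M x a
  obtain ⟨f, hfW, hxf⟩ := QCohLib.exists_basicOpen_nhd hU hxW hx
  obtain ⟨n, s, hs⟩ := (QCohLib.localizingAt_of_isQCoh hU M f).exists_extend
    (M.presheaf.map (homOfLE hfW).op t)
  refine ⟨X.presheaf.germ U x hx f ^ n, s, ((X.mem_basicOpen f x hx).mp hxf).pow n, ?_⟩
  have h := congr_arg (gm M x hxf) hs
  erw [gm_map, gm_smul, gm_map] at h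
  rw [h, map_pow]
  congr 2
  exact (TopCat.Presheaf.germ_res_apply X.presheaf _ x hxf f).symm

theorem weak_def (M : X.Modules) (x : X) :
    Curv2.IsWeakAssPoint M x ↔ ∃ a : (St x).obj M,
      (ann (X.presheaf.stalk x) a).radical = IsLocalRing.maximalIdeal (X.presheaf.stalk x) :=
  Iff.rfl

/-- Weakly associated points through the module of sections over an affine open. -/
theorem weak_iff {M : X.Modules} [Coh.IsQCoh M] {U : X.Opens} (hU : IsAffineOpen U) {x : X}
    (hx : x ∈ U) :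
    Curv2.IsWeakAssPoint M x ↔
      ∃ s : Γ(M, U), (hU.primeIdealOf ⟨x, hx⟩).asIdeal ∈ (ann Γ(X, U) s).minimalPrimes := by
  rw [weak_def]
  constructor
  · rintro ⟨a, ha⟩
    obtain ⟨v, s, hv, hs⟩ := exists_smul_eq_gm hU hx a
    have hann : ∀ c, c • gm M x hx s = 0 → c ∈ ann (X.presheaf.stalk x) a := fun c hc => by
      rw [← hs, smul_comm] at hc
      exact hv.smul_eq_zero.mp hc
    refine ⟨s, minimal_iff.mpr ⟨fun c hc => ?_, fun b hb => ?_⟩⟩
    · by_contra hcp
      have h : X.presheaf.germ U x hx c • gm M x hx s = 0 := by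
        rw [← gm_smul, (mem_ann _).mp hc, gm_zero]
      have h1 : X.presheaf.germ U x hx c ∈ IsLocalRing.maximalIdeal _ :=
        ha ▸ Ideal.le_radical (hann _ h)
      exact h1 (isUnit_germ hU hx hcp)
    · obtain ⟨n, hn⟩ := (ha.ge (germ_mem_maximal hU hx hb) : X.presheaf.germ U x hx b ∈ _)
      have h : gm M x hx (b ^ n • s) = 0 := by
        rw [gm_smul, ← hs, smul_comm, map_pow]
        exact (congr_arg _ ((mem_ann _).mp hn)).trans (smul_zero _)
      obtain ⟨t, ht, hts⟩ := (gm_eq_zero_iff hU x hx _).mp h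
      exact ⟨t, ht, n, by rw [mem_ann, mul_smul]; exact hts⟩
  · rintro ⟨s, hs⟩
    obtain ⟨hle, hex⟩ := minimal_iff.mp hs
    refine ⟨gm M x hx s, le_antisymm ?_ fun r hr => ?_⟩
    · refine (IsLocalRing.maximalIdeal.isMaximal _).isPrime.radical_le_iff.mpr fun c hc => ?_
      by_contra hcm
      have h0 : gm M x hx s = 0 :=
        ((IsLocalRing.notMem_maximalIdeal).mp hcm).smul_eq_zero.mp hc
      obtain ⟨t, ht, hts⟩ := (gm_eq_zero_iff hU x hx _).mp h0
      exact ht (hle hts)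
    · let alg := X.presheaf.algebra_section_stalk (⟨x, hx⟩ : U)
      have hloc : IsLocalization.AtPrime (X.presheaf.stalk x) (hU.primeIdealOf ⟨x, hx⟩).asIdeal :=
        hU.isLocalization_stalk ⟨x, hx⟩
      obtain ⟨a, b, rfl⟩ :=
        IsLocalization.exists_mk'_eq (hU.primeIdealOf ⟨x, hx⟩).asIdeal.primeCompl r
      have ha : a ∈ (hU.primeIdealOf ⟨x, hx⟩).asIdeal :=
        (IsLocalization.AtPrime.mk'_mem_maximal_iff (X.presheaf.stalk x)
          (hU.primeIdealOf ⟨x, hx⟩).asIdeal a b).mp hr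
      obtain ⟨t, ht, n, hn⟩ := hex a ha
      refine ⟨n, ?_⟩
      have h : X.presheaf.germ U x hx a ^ n • gm M x hx s = 0 := by
        rw [← map_pow, ← gm_smul]
        refine (gm_eq_zero_iff hU x hx _).mpr ⟨t, ht, ?_⟩
        rw [← mul_smul]; exact hn
      rw [mem_ann, IsLocalization.mk'_eq_mul_mk'_one, mul_pow, mul_comm, mul_smul]
      exact (congr_arg _ h).trans (smul_zero _)

/-- For a point of an affine open, associated and weakly associated agree. -/
theorem assPoint_iff_weak (M : X.Modules) (x : X) :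
    Curv2.IsAssPoint M x ↔ Curv2.IsWeakAssPoint M x := by
  constructor
  · rintro ⟨-, a, ha⟩
    exact ⟨a, by rw [show LinearMap.ker (LinearMap.toSpanSingleton (X.presheaf.stalk x) _ a) = _ from
      ann_eq_colon (X.presheaf.stalk x) a]; exact ha.symm⟩
  · rintro ⟨a, ha⟩
    exact ⟨(IsLocalRing.maximalIdeal.isMaximal _).isPrime, a, by rw [← ann_eq_colon]; exact ha.symm⟩

theorem weak_iff_mem_support {M : X.Modules} {x : X} (h : Curv2.IsWeakAssPoint M x) :
    x ∈ CohB1.support M := by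
  obtain ⟨a, ha⟩ := (weak_def M x).mp h
  refine (mem_support_iff_nonzero M x).mpr ⟨a, fun h0 => ?_⟩
  have : (1 : X.presheaf.stalk x) ∈ IsLocalRing.maximalIdeal (X.presheaf.stalk x) :=
    ha ▸ Ideal.le_radical (show (1 : X.presheaf.stalk x) • a = 0 by rw [h0]; exact smul_zero _)
  exact (IsLocalRing.maximalIdeal.isMaximal _).ne_top ((Ideal.eq_top_iff_one _).mpr this)

/-- A nonzero germ of a section is nonzero at a weakly associated generalization. -/
theorem exists_weak_specializes {M : X.Modules} [Coh.IsQCoh M] {U : X.Opens} (hU : IsAffineOpen U)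
    {x : X} (hx : x ∈ U) (s : Γ(M, U)) (hs : gm M x hx s ≠ 0) :
    ∃ (y : X) (hy : y ∈ U), y ⤳ x ∧ Curv2.IsWeakAssPoint M y ∧ gm M y hy s ≠ 0 := by
  have hle : ann Γ(X, U) s ≤ (hU.primeIdealOf ⟨x, hx⟩).asIdeal := fun c hc => by
    by_contra hcp
    exact hs ((gm_eq_zero_iff hU x hx s).mpr ⟨c, hcp, hc⟩)
  obtain ⟨q, hq, hqp⟩ := Ideal.exists_minimalPrimes_le hle
  let q' : PrimeSpectrum Γ(X, U) := ⟨q, hq.1.1⟩
  have hy : hU.fromSpec q' ∈ U := by
    have : hU.fromSpec q' ∈ Set.range hU.fromSpec := ⟨q', rfl⟩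
    rwa [hU.range_fromSpec] at this
  have hpr : hU.primeIdealOf ⟨hU.fromSpec q', hy⟩ = q' :=
    hU.fromSpec.isOpenEmbedding.injective (hU.fromSpec_primeIdealOf ⟨_, hy⟩)
  refine ⟨hU.fromSpec q', hy, ?_, (weak_iff hU hy).mpr ⟨s, by rw [hpr]; exact hq⟩, fun h0 => ?_⟩
  · have h : q' ⤳ hU.primeIdealOf ⟨x, hx⟩ := (PrimeSpectrum.le_iff_specializes _ _).mp hqp
    have := h.map hU.fromSpec.continuous
    rwa [hU.fromSpec_primeIdealOf] at this
  · obtain ⟨t, ht, hts⟩ := (gm_eq_zero_iff hU _ hy s).mp h0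
    rw [hpr] at ht
    exact ht (hq.1.2 hts)

/-- Every point of the support has a weakly associated generalization. -/
theorem exists_weak_of_mem_support {M : X.Modules} [Coh.IsQCoh M] {x : X} (hx : x ∈ CohB1.support M) :
    ∃ y, y ⤳ x ∧ Curv2.IsWeakAssPoint M y := by
  obtain ⟨U, hU, hxU⟩ := QCohLib.exists_affine_nhd x
  obtain ⟨a, ha⟩ := (mem_support_iff_nonzero M x).mp hx
  obtain ⟨v, s, hv, hs⟩ := exists_smul_eq_gm hU hxU a
  obtain ⟨y, -, hyx, hy, -⟩ := exists_weak_specializes hU hxU s fun h0 =>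
    ha (hv.smul_eq_zero.mp (hs.trans h0))
  exact ⟨y, hyx, hy⟩

theorem weak_of_maximal {M : X.Modules} [Coh.IsQCoh M] {x : X} (hx : x ∈ CohB1.support M)
    (hmax : ∀ y ∈ CohB1.support M, y ⤳ x → y = x) : Curv2.IsWeakAssPoint M x := by
  obtain ⟨y, hyx, hy⟩ := exists_weak_of_mem_support hx
  exact hmax y (weak_iff_mem_support hy) hyx ▸ hy

theorem isZero_iff_no_weak {M : X.Modules} [Coh.IsQCoh M] :
    IsZero M ↔ ∀ x : X, ¬ Curv2.IsWeakAssPoint M x := by
  refine ⟨fun h x hx => ?_, fun h => isZero_of_support_empty (Set.eq_empty_of_forall_notMem fun x hx => ?_)⟩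
  · exact (Set.notMem_empty x) (support_of_isZero h ▸ weak_iff_mem_support hx)
  · obtain ⟨y, -, hy⟩ := exists_weak_of_mem_support hx
    exact h y hy

theorem restrict_injective {M : X.Modules} [Coh.IsQCoh M] (U : X.Opens)
    (hU : ∀ x : X, Curv2.IsWeakAssPoint M x → x ∈ U) :
    Function.Injective (M.presheaf.map (homOfLE (le_top : U ≤ ⊤)).op) := by
  rw [injective_iff_map_eq_zero]
  intro s hs
  refine TopCat.Presheaf.section_ext (F := ⟨M.presheaf, M.isSheaf⟩) ⊤ _ _ fun x _ => ?_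
  by_contra hne
  obtain ⟨V, hV, hxV⟩ := QCohLib.exists_affine_nhd x
  obtain ⟨y, hyV, -, hy, hne'⟩ := exists_weak_specializes hV hxV
    (M.presheaf.map (homOfLE (le_top : V ≤ ⊤)).op s) (fun h0 => hne (by
      erw [gm_map] at h0
      exact h0.trans (gm_zero M x _).symm))
  refine hne' ?_
  erw [gm_map]
  have h := congr_arg (gm M y (hU y hy)) hs
  erw [gm_map, gm_zero] at h
  exact h

theorem finite_assPoints [IsLocallyNoetherian X] {M : X.Modules} [Coh.IsQCoh M] (hM : CohB1.IsFT M)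
    (U : X.Opens) (hU : IsCompact (U : Set X)) :
    {x : X | x ∈ U ∧ Curv2.IsWeakAssPoint M x}.Finite := by
  have key : ∀ V : X.Opens, IsAffineOpen V → {x : X | x ∈ V ∧ Curv2.IsWeakAssPoint M x}.Finite := by
    intro V hV
    haveI : IsNoetherianRing Γ(X, V) := IsLocallyNoetherian.component_noetherian ⟨V, hV⟩
    haveI : Module.Finite Γ(X, V) Γ(M, V) := QCohLib.finite_of_isFT hM hV
    have hf : (associatedPrimes Γ(X, V) Γ(M, V)).Finite := associatedPrimes.finite _ _
    refine (hf.preimage (f := fun q : PrimeSpectrum Γ(X, V) => q.asIdeal)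
      (fun a _ b _ h => PrimeSpectrum.ext h)).image hV.fromSpec |>.subset ?_
    rintro x ⟨hx, h⟩
    obtain ⟨s, hs⟩ := (weak_iff hV hx).mp h
    exact ⟨hV.primeIdealOf ⟨x, hx⟩, isAssociatedPrime_of_fg (IsNoetherian.noetherian _) hs,
      hV.fromSpec_primeIdealOf ⟨x, hx⟩⟩
  obtain ⟨t, ht⟩ := hU.elim_finite_subcover (fun V : X.affineOpens => (V.1 : Set X)) (fun V => V.1.isOpen)
    (fun x _ => by
      obtain ⟨V, hV, hxV⟩ := QCohLib.exists_affine_nhd x
      exact Set.mem_iUnion.mpr ⟨⟨V, hV⟩, hxV⟩)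
  refine (t.finite_toSet.biUnion fun V _ => key V.1 V.2).subset fun x hx => ?_
  obtain ⟨V, hVt, hxV⟩ := Set.mem_iUnion₂.mp (ht hx.1)
  exact Set.mem_biUnion hVt ⟨hxV, hx.2⟩

theorem weak_shortExact {S : ShortComplex X.Modules} (hS : S.ShortExact) {x : X} :
    (Curv2.IsWeakAssPoint S.X₂ x → Curv2.IsWeakAssPoint S.X₁ x ∨ Curv2.IsWeakAssPoint S.X₃ x) ∧
      (Curv2.IsWeakAssPoint S.X₁ x → Curv2.IsWeakAssPoint S.X₂ x) := by
  have hT : (S.map (St x)).ShortExact := hS.map_of_exact (St x)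
  have hi : Function.Injective ((St x).map S.f).hom := hT.moduleCat_injective_f
  simp only [weak_def]
  refine ⟨?_, ?_⟩
  · rintro ⟨a, ha⟩
    by_cases h0 : ((St x).map S.g).hom a = 0
    · left
      obtain ⟨b, hb⟩ := ((ShortComplex.ShortExact.moduleCat_exact_iff_function_exact _).mp hT.exact a).mp h0
      refine ⟨b, ?_⟩
      rw [← ha]
      congr 1
      ext r
      change r • b = 0 ↔ r • a = 0
      rw [← hb]
      change _ ↔ r • ((St x).map S.f).hom b = 0
      rw [← map_smul, map_eq_zero_iff _ hi]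
      exact Iff.rfl
    · right
      refine ⟨((St x).map S.g).hom a, le_antisymm ?_ ?_⟩
      · refine (IsLocalRing.maximalIdeal.isMaximal _).isPrime.radical_le_iff.mpr fun c hc => ?_
        by_contra hcm
        exact h0 (((IsLocalRing.notMem_maximalIdeal).mp hcm).smul_eq_zero.mp hc)
      · rw [← ha]
        refine Ideal.radical_mono fun c hc => ?_
        change c • ((St x).map S.g).hom a = 0
        rw [← map_smul, (mem_ann _).mp hc, map_zero]
  · rintro ⟨b, hb⟩
    refine ⟨((St x).map S.f).hom b, ?_⟩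
    rw [← hb]
    congr 1
    ext r
    change r • ((St x).map S.f).hom b = 0 ↔ r • b = 0
    rw [← map_smul, map_eq_zero_iff _ hi]

end AssPointLib
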