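import Groth.Agent.AssPointLib.Basic
import Groth.Agent.QCohLib.Push
import Mathlib.AlgebraicGeometry.Morphisms.Integral
import Mathlib.AlgebraicGeometry.Morphisms.QuasiFinite
import Mathlib.AlgebraicGeometry.Morphisms.Finite

/-!
# Weakly associated points of direct images
-/

set_option autoImplicit false

universe u

open CategoryTheory CategoryTheory.Limits AlgebraicGeometry TopologicalSpace Opposite DevissLib

namespace AssPointLib

variable {X S : Scheme.{u}}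

theorem apply_fromSpec (f : X ⟶ S) {U : S.Opens} {V : X.Opens} (hU : IsAffineOpen U) (hV : IsAffineOpen V)
    (i : V ≤ f ⁻¹ᵁ U) (Q : PrimeSpectrum Γ(X, V)) :
    f (hV.fromSpec Q) = hU.fromSpec (Q.comap (f.appLE U V i).hom) := by
  change (hV.fromSpec ≫ f) Q = _
  rw [← IsAffineOpen.SpecMap_appLE_fromSpec f hU hV i]
  rfl

theorem fromSpec_mem {U : S.Opens} (hU : IsAffineOpen U) (q : PrimeSpectrum Γ(S, U)) :
    hU.fromSpec q ∈ U := by
  have : hU.fromSpec q ∈ Set.range hU.fromSpec := ⟨q, rfl⟩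
  rwa [hU.range_fromSpec] at this

theorem primeIdealOf_fromSpec {U : S.Opens} (hU : IsAffineOpen U) (q : PrimeSpectrum Γ(S, U)) :
    hU.primeIdealOf ⟨hU.fromSpec q, fromSpec_mem hU q⟩ = q :=
  hU.fromSpec.isOpenEmbedding.injective (hU.fromSpec_primeIdealOf ⟨_, fromSpec_mem hU q⟩)

theorem res_smul (M : X.Modules) {V W : X.Opens} (h : W ≤ V) (r : Γ(X, V)) (m : Γ(M, V)) :
    M.presheaf.map (homOfLE h).op (r • m) =
      X.presheaf.map (homOfLE h).op r • M.presheaf.map (homOfLE h).op m :=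
  QCohLib.map_smul' M (homOfLE h) r m

/-- A weakly associated point of a direct image is the image of a weakly associated point. -/
theorem exists_of_weak_push (f : X ⟶ S) [QuasiCompact f] [QuasiSeparated f] (F : X.Modules)
    [Coh.IsQCoh F] {s : S} (hs : Curv2.IsWeakAssPoint ((Scheme.Modules.pushforward f).obj F) s) :
    ∃ x : X, f x = s ∧ Curv2.IsWeakAssPoint F x := by
  classical
  haveI := QCohLib.isQCoh_pushforward f F
  obtain ⟨U, hU, hsU⟩ := QCohLib.exists_affine_nhd s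
  obtain ⟨m, hm⟩ := (weak_iff hU hsU).mp hs
  let n : Γ(F, f ⁻¹ᵁ U) := m
  obtain ⟨t, ht⟩ := (QuasiCompact.isCompact_preimage (f := f) U U.isOpen hU.isCompact).elim_finite_subcover
    (fun V : {V : X.Opens // IsAffineOpen V ∧ V ≤ f ⁻¹ᵁ U} => (V.1 : Set X)) (fun V => V.1.isOpen)
    (fun x hx => by
      obtain ⟨_, ⟨V, hV, rfl⟩, hxV, hVU⟩ := X.isBasis_affineOpens.exists_subset_of_mem_open hx (f ⁻¹ᵁ U).isOpen
      exact Set.mem_iUnion.mpr ⟨⟨V, hV, hVU⟩, hxV⟩)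
  let J : {V : X.Opens // IsAffineOpen V ∧ V ≤ f ⁻¹ᵁ U} → Ideal Γ(S, U) := fun V =>
    (ann Γ(X, V.1) (F.presheaf.map (homOfLE V.2.2).op n)).comap (f.appLE U V.1 V.2.2).hom
  have hq : (hU.primeIdealOf ⟨s, hsU⟩).asIdeal.IsPrime := (hU.primeIdealOf ⟨s, hsU⟩).2
  have hinf : ann Γ(S, U) m = t.inf J := by
    ext a
    simp only [Submodule.mem_finsetInf]
    constructor
    · intro ha V _
      change f.appLE U V.1 V.2.2 a • F.presheaf.map (homOfLE V.2.2).op n = 0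
      have h : (f.app U a • n : Γ(F, f ⁻¹ᵁ U)) = 0 := (QCohLib.push_smul f F a m).symm.trans ha
      have h1 := congr_arg (F.presheaf.map (homOfLE V.2.2).op) h
      rw [res_smul, map_zero] at h1
      exact h1
    · intro ha
      refine (mem_ann _).mpr ((QCohLib.push_smul f F a m).trans ?_)
      refine TopCat.Sheaf.eq_of_locally_eq' ⟨F.presheaf, F.isSheaf⟩
        (fun V : t => V.1.1) (f ⁻¹ᵁ U) (fun V => homOfLE V.1.2.2) (fun x hx => ?_) _ _ fun V => ?_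
      · obtain ⟨V, hV, hxV⟩ := Set.mem_iUnion₂.mp (ht hx)
        exact Opens.mem_iSup.mpr ⟨⟨V, hV⟩, hxV⟩
      · change F.presheaf.map (homOfLE V.1.2.2).op (f.app U a • n) = F.presheaf.map (homOfLE V.1.2.2).op (0 : Γ(F, f ⁻¹ᵁ U))
        rw [res_smul, map_zero]
        exact ha V.1 V.2
  rw [hinf] at hm
  obtain ⟨V, hVt, hVq⟩ := (hq.inf_le' (s := t) (f := J)).mp hm.le
  have hmin : (hU.primeIdealOf ⟨s, hsU⟩).asIdeal ∈ (J V).minimalPrimes :=
    ⟨⟨hq, hVq⟩, fun q' hq' hle => hm.2 ⟨hq'.1, (Finset.inf_le hVt).trans hq'.2⟩ hle⟩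
  obtain ⟨Q, hQ, hQe⟩ := Ideal.exists_minimalPrimes_comap_eq _ _ hmin
  let Q' : PrimeSpectrum Γ(X, V.1) := ⟨Q, hQ.1.1⟩
  refine ⟨V.2.1.fromSpec Q', ?_, (weak_iff V.2.1 (fromSpec_mem V.2.1 Q')).mpr
    ⟨F.presheaf.map (homOfLE V.2.2).op n, by rw [primeIdealOf_fromSpec]; exact hQ⟩⟩
  rw [apply_fromSpec f hU V.2.1 V.2.2,
    show Q'.comap (f.appLE U V.1 V.2.2).hom = hU.primeIdealOf ⟨s, hsU⟩ from PrimeSpectrum.ext hQe]
  exact hU.fromSpec_primeIdealOf ⟨s, hsU⟩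

/-- The comparison at an affine open for an affine morphism. -/
theorem weak_push_of_minimal (f : X ⟶ S) [IsAffineHom f] (F : X.Modules) [Coh.IsQCoh F]
    {U : S.Opens} (hU : IsAffineOpen U) {x : X} (hx : f x ∈ U) (m' : Γ(F, f ⁻¹ᵁ U))
    (h : (hU.primeIdealOf ⟨f x, hx⟩).asIdeal ∈ ((ann Γ(X, f ⁻¹ᵁ U) m').comap (f.app U).hom).minimalPrimes) :
    Curv2.IsWeakAssPoint ((Scheme.Modules.pushforward f).obj F) (f x) := by
  haveI := QCohLib.isQCoh_pushforward f F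
  refine (weak_iff hU hx).mpr ⟨m', ?_⟩
  convert h using 2
  ext a
  exact Iff.rfl

theorem comap_primeIdealOf (f : X ⟶ S) [IsAffineHom f] {U : S.Opens} (hU : IsAffineOpen U) {x : X}
    (hx : f x ∈ U) :
    ((hU.preimage f).primeIdealOf ⟨x, hx⟩).comap (f.app U).hom = hU.primeIdealOf ⟨f x, hx⟩ := by
  have h := apply_fromSpec f hU (hU.preimage f) le_rfl ((hU.preimage f).primeIdealOf ⟨x, hx⟩)
  rw [(hU.preimage f).fromSpec_primeIdealOf ⟨x, hx⟩] at h
  have h' := hU.fromSpec.isOpenEmbedding.injective ((hU.fromSpec_primeIdealOf ⟨f x, hx⟩).trans h)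
  rw [h', Scheme.Hom.appLE_eq_app]

theorem weak_push_of_noetherian (f : X ⟶ S) [IsAffineHom f] [IsLocallyNoetherian X] (F : X.Modules)
    [Coh.IsQCoh F] {x : X} (hx : Curv2.IsWeakAssPoint F x) :
    Curv2.IsWeakAssPoint ((Scheme.Modules.pushforward f).obj F) (f x) := by
  obtain ⟨U, hU, hxU⟩ := QCohLib.exists_affine_nhd (f x)
  haveI : IsNoetherianRing Γ(X, f ⁻¹ᵁ U) := IsLocallyNoetherian.component_noetherian ⟨_, hU.preimage f⟩
  obtain ⟨m, hm⟩ := (weak_iff (hU.preimage f) (show x ∈ f ⁻¹ᵁ U from hxU)).mp hx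
  haveI := ((hU.preimage f).primeIdealOf ⟨x, hxU⟩).2
  obtain ⟨-, m', hm'⟩ := isAssociatedPrime_of_fg (IsNoetherian.noetherian _) hm
  rw [← ann_eq_colon] at hm'
  refine weak_push_of_minimal f F hU hxU m' ?_
  rw [← comap_primeIdealOf f hU hxU, PrimeSpectrum.comap_asIdeal]
  refine ⟨⟨inferInstance, Ideal.comap_mono (hm' ▸ Ideal.le_radical)⟩, fun q hq _ => ?_⟩
  rw [hm', Ideal.comap_radical]
  exact hq.1.radical_le_iff.mpr hq.2

theorem weak_push_of_finite (f : X ⟶ S) [IsFinite f] (F : X.Modules)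
    [Coh.IsQCoh F] {x : X} (hx : Curv2.IsWeakAssPoint F x) :
    Curv2.IsWeakAssPoint ((Scheme.Modules.pushforward f).obj F) (f x) := by
  obtain ⟨U, hU, hxU⟩ := QCohLib.exists_affine_nhd (f x)
  obtain ⟨m, hm⟩ := (weak_iff (hU.preimage f) (show x ∈ f ⁻¹ᵁ U from hxU)).mp hx
  letI : Algebra Γ(S, U) Γ(X, f ⁻¹ᵁ U) := (f.app U).hom.toAlgebra
  haveI : Algebra.IsIntegral Γ(S, U) Γ(X, f ⁻¹ᵁ U) := ⟨f.isIntegral_app U hU⟩
  haveI := ((hU.preimage f).primeIdealOf ⟨x, hxU⟩).2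
  have hcm : ((hU.preimage f).primeIdealOf ⟨x, hxU⟩).asIdeal.comap (algebraMap Γ(S, U) Γ(X, f ⁻¹ᵁ U)) =
      (hU.primeIdealOf ⟨f x, hxU⟩).asIdeal :=
    congr_arg PrimeSpectrum.asIdeal (comap_primeIdealOf f hU hxU)
  obtain ⟨m', hm'⟩ := comap_minimal_of_integral hm (by
    have hfin : (f ⁻¹' {f x}).Finite := f.finite_preimage_singleton (f x)
    refine ((hfin.preimage (f := fun q : PrimeSpectrum Γ(X, f ⁻¹ᵁ U) => (hU.preimage f).fromSpec q)
      (fun a _ b _ h => (hU.preimage f).fromSpec.isOpenEmbedding.injective h)).image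
        PrimeSpectrum.asIdeal).subset ?_
    rintro P ⟨hP, hPe⟩
    refine ⟨⟨P, hP⟩, ?_, rfl⟩
    change f ((hU.preimage f).fromSpec ⟨P, hP⟩) = f x
    rw [apply_fromSpec f hU (hU.preimage f) le_rfl, Scheme.Hom.appLE_eq_app,
      show (⟨P, hP⟩ : PrimeSpectrum Γ(X, f ⁻¹ᵁ U)).comap (f.app U).hom = hU.primeIdealOf ⟨f x, hxU⟩ from
        PrimeSpectrum.ext (hPe.trans hcm)]
    exact hU.fromSpec_primeIdealOf ⟨f x, hxU⟩)
  rw [hcm] at hm'
  exact weak_push_of_minimal f F hU hxU m' hm'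

end AssPointLib
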