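import Groth.Prelude.Def_CInt
import Groth.Agent.AssPointLib.Push
import Mathlib.RingTheory.Ideal.AssociatedPrime.Localization

/-!
# Schematically dense opens and associated points of the structure sheaf
-/

set_option autoImplicit false

universe u

open CategoryTheory CategoryTheory.Limits AlgebraicGeometry TopologicalSpace Opposite

namespace AssPointLib

variable {X : Scheme.{u}}

theorem germ_eq_zero_iff {V : X.Opens} (hV : IsAffineOpen V) {x : X} (hx : x ∈ V) (s : Γ(X, V)) :
    X.presheaf.germ V x hx s = 0 ↔ ∃ t, t ∉ (hV.primeIdealOf ⟨x, hx⟩).asIdeal ∧ t * s = 0 := by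
  let alg := X.presheaf.algebra_section_stalk (⟨x, hx⟩ : V)
  have hloc : IsLocalization.AtPrime (X.presheaf.stalk x) (hV.primeIdealOf ⟨x, hx⟩).asIdeal :=
    hV.isLocalization_stalk ⟨x, hx⟩
  refine (IsLocalization.map_eq_zero_iff (hV.primeIdealOf ⟨x, hx⟩).asIdeal.primeCompl (X.presheaf.stalk x) s).trans ?_
  exact ⟨fun ⟨t, ht⟩ => ⟨t, t.2, ht⟩, fun ⟨t, ht, hts⟩ => ⟨⟨t, ht⟩, hts⟩⟩

theorem assStalk_iff [IsLocallyNoetherian X] {V : X.Opens} (hV : IsAffineOpen V) {x : X} (hx : x ∈ V) :
    IsAssociatedPrime (IsLocalRing.maximalIdeal (X.presheaf.stalk x)) (X.presheaf.stalk x) ↔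
      (hV.primeIdealOf ⟨x, hx⟩).asIdeal ∈ associatedPrimes Γ(X, V) Γ(X, V) := by
  haveI : IsNoetherianRing Γ(X, V) := IsLocallyNoetherian.component_noetherian ⟨V, hV⟩
  let alg := X.presheaf.algebra_section_stalk (⟨x, hx⟩ : V)
  have hloc : IsLocalization.AtPrime (X.presheaf.stalk x) (hV.primeIdealOf ⟨x, hx⟩).asIdeal :=
    hV.isLocalization_stalk ⟨x, hx⟩
  have h := Module.associatedPrimes.preimage_comap_associatedPrimes_eq_associatedPrimes_of_isLocalizedModule
    (R' := X.presheaf.stalk x) (hV.primeIdealOf ⟨x, hx⟩).asIdeal.primeCompl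
    (Algebra.linearMap Γ(X, V) (X.presheaf.stalk x))
  have h' := Set.ext_iff.mp h (IsLocalRing.maximalIdeal (X.presheaf.stalk x))
  have e := IsLocalization.AtPrime.under_maximalIdeal (X.presheaf.stalk x) (hV.primeIdealOf ⟨x, hx⟩).asIdeal
  rw [Ideal.under_def] at e
  rw [Set.mem_preimage, e] at h'
  exact h'.symm

/-- Schematic density of an open subscheme of a locally Noetherian scheme. -/
theorem isSchematicallyDense_iff [IsLocallyNoetherian X] (U : X.Opens) :
    CInt.IsSchematicallyDense U ↔ ∀ x : X,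
      IsAssociatedPrime (IsLocalRing.maximalIdeal (X.presheaf.stalk x)) (X.presheaf.stalk x) → x ∈ U := by
  constructor
  · intro hU x hass
    by_contra hxU
    obtain ⟨V, hV, hxV⟩ := QCohLib.exists_affine_nhd x
    haveI : IsNoetherianRing Γ(X, V) := IsLocallyNoetherian.component_noetherian ⟨V, hV⟩
    obtain ⟨hp, m, hm⟩ := isAssociatedPrime_iff.mp ((assStalk_iff hV hxV).mp hass)
    have hm0 : X.presheaf.map (homOfLE (inf_le_left : V ⊓ U ≤ V)).op m = 0 := by
      refine TopCat.Presheaf.section_ext X.sheaf (V ⊓ U) _ _ fun y hy => ?_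
      refine ((TopCat.Presheaf.germ_res_apply X.presheaf _ y hy m).trans ?_).trans (map_zero _).symm
      refine (germ_eq_zero_iff hV hy.1 m).mpr ?_
      by_contra hc
      simp only [not_exists, not_and] at hc
      have hle : (hV.primeIdealOf ⟨x, hxV⟩).asIdeal ≤ (hV.primeIdealOf ⟨y, hy.1⟩).asIdeal := fun t ht => by
        by_contra htq
        rw [hm, Submodule.mem_colon_singleton, Submodule.mem_bot] at ht
        exact hc t htq ht
      have h := ((PrimeSpectrum.le_iff_specializes (hV.primeIdealOf ⟨x, hxV⟩) (hV.primeIdealOf ⟨y, hy.1⟩)).mp hle).map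
        hV.fromSpec.continuous
      rw [hV.fromSpec_primeIdealOf, hV.fromSpec_primeIdealOf] at h
      exact hxU (h.mem_open U.isOpen hy.2)
    have : m = 0 := hU V (hm0.trans (map_zero _).symm)
    refine hp.ne_top ?_
    rw [hm, this, Ideal.eq_top_iff_one, Submodule.mem_colon_singleton, Submodule.mem_bot, smul_zero]
  · intro h V
    rw [injective_iff_map_eq_zero]
    intro s hs
    refine TopCat.Presheaf.section_ext X.sheaf V _ _ fun x hx => ?_
    refine Eq.trans ?_ (map_zero _).symm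
    by_contra hne
    obtain ⟨_, ⟨W, hW, rfl⟩, hxW, hWV⟩ := X.isBasis_affineOpens.exists_subset_of_mem_open hx V.isOpen
    haveI : IsNoetherianRing Γ(X, W) := IsLocallyNoetherian.component_noetherian ⟨W, hW⟩
    let s' : Γ(X, W) := X.presheaf.map (homOfLE hWV).op s
    have hle : ann Γ(X, W) s' ≤ (hW.primeIdealOf ⟨x, hxW⟩).asIdeal := fun c hc => by
      by_contra hcp
      refine hne (Eq.trans ?_ ((germ_eq_zero_iff hW hxW s').mpr ⟨c, hcp, hc⟩))
      exact (TopCat.Presheaf.germ_res_apply X.presheaf _ x hxW s).symm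
    obtain ⟨q, hq, -⟩ := Ideal.exists_minimalPrimes_le hle
    haveI := hq.1.1
    let q' : PrimeSpectrum Γ(X, W) := ⟨q, hq.1.1⟩
    have hyW : hW.fromSpec q' ∈ W := fromSpec_mem hW q'
    have hyU : hW.fromSpec q' ∈ U := h _ ((assStalk_iff hW hyW).mpr (by
      rw [primeIdealOf_fromSpec hW q']
      exact isAssociatedPrime_of_fg (IsNoetherian.noetherian _) hq))
    have h0 : X.presheaf.germ W _ hyW s' = 0 := by
      refine (TopCat.Presheaf.germ_res_apply X.presheaf _ _ hyW s).trans ?_
      have h1 := congr_arg (X.presheaf.germ (V ⊓ U) _ ⟨hWV hyW, hyU⟩) hs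
      rw [map_zero] at h1
      exact (TopCat.Presheaf.germ_res_apply X.presheaf (homOfLE (inf_le_left : V ⊓ U ≤ V)) _
        ⟨hWV hyW, hyU⟩ s).symm.trans h1
    obtain ⟨t, ht, hts⟩ := (germ_eq_zero_iff hW hyW s').mp h0
    rw [primeIdealOf_fromSpec hW q'] at ht
    exact ht (hq.1.2 hts)

end AssPointLib
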