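import Groth.Prelude.Def_CAlg
import Groth.Agent.AssPointLib.Basic
import Groth.Agent.DevissLib.Induction
import Mathlib.RingTheory.KrullDimension.Module
import Mathlib.RingTheory.Regular.IsSMulRegular
import Mathlib.RingTheory.Nakayama

/-!
# Embedded associated points and the property S₁
-/

set_option autoImplicit false

universe u v

open CategoryTheory CategoryTheory.Limits AlgebraicGeometry TopologicalSpace Opposite DevissLib

namespace AssPointLib

section Local

variable {R : Type u} [CommRing R] [IsLocalRing R] [IsNoetherianRing R] {M : Type v} [AddCommGroup M]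
  [Module R M] [Module.Finite R M]

/-- Every element is killed by a power of each element of the maximal ideal. -/
def IsTors (R : Type u) [CommRing R] [IsLocalRing R] (M : Type v) [AddCommGroup M] [Module R M] : Prop :=
  ∀ m : M, ∀ r ∈ IsLocalRing.maximalIdeal R, ∃ n : ℕ, r ^ n • m = 0

omit [IsNoetherianRing R] in
theorem isTors_iff [Nontrivial M] : IsTors R M ↔ Module.supportDim R M ≤ 0 := by
  constructor
  · intro h
    haveI : Subsingleton (Module.support R M) := by
      refine ⟨fun a b => ?_⟩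
      have key : ∀ p : Module.support R M, p.1.asIdeal = IsLocalRing.maximalIdeal R := by
        intro p
        refine le_antisymm (IsLocalRing.le_maximalIdeal p.1.2.ne_top) fun r hr => ?_
        obtain ⟨m, hm⟩ := Module.mem_support_iff_exists_annihilator.mp p.2
        obtain ⟨n, hn⟩ := h m r hr
        exact p.1.2.mem_of_pow_mem n (hm (Submodule.mem_annihilator_span_singleton _ _ |>.mpr hn))
      exact Subtype.ext (PrimeSpectrum.ext ((key a).trans (key b).symm))
    exact Order.krullDim_nonpos_of_subsingleton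
  · intro h m r hr
    by_contra hc
    simp only [not_exists] at hc
    obtain ⟨p, hp, hle, hpd⟩ := Ideal.exists_le_prime_disjoint (ann R m) (Submonoid.powers r) (by
      rw [Set.disjoint_left]
      rintro _ hx ⟨n, rfl⟩
      exact hc n hx)
    have hsupp : (⟨p, hp⟩ : PrimeSpectrum R) ∈ Module.support R M :=
      Module.mem_support_iff_exists_annihilator.mpr ⟨m, by rwa [← ann_eq_annihilator_span]⟩
    have hmax : IsLocalRing.closedPoint R ∈ Module.support R M := IsLocalRing.closedPoint_mem_support R M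
    have hmin := Order.krullDim_nonpos_iff_forall_isMax.mp h ⟨⟨p, hp⟩, hsupp⟩
    have hle' : (⟨⟨p, hp⟩, hsupp⟩ : Module.support R M) ≤ ⟨IsLocalRing.closedPoint R, hmax⟩ :=
      IsLocalRing.le_maximalIdeal hp.ne_top
    exact Set.disjoint_left.mp hpd (hmin hle' hr) ⟨1, pow_one r⟩

/-- `depth ≥ 1` unless the maximal ideal is associated. -/
theorem one_le_depth_iff [Nontrivial M] :
    1 ≤ LocCoh.depth R M ↔ ¬ IsAssociatedPrime (IsLocalRing.maximalIdeal R) M := by
  have hne : IsLocalRing.maximalIdeal R • (⊤ : Submodule R M) ≠ ⊤ := fun h => by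
    have := Submodule.eq_bot_of_le_smul_of_le_jacobson_bot (IsLocalRing.maximalIdeal R) (⊤ : Submodule R M)
      Module.Finite.fg_top h.ge (IsLocalRing.maximalIdeal_le_jacobson _)
    exact top_ne_bot this
  have hd : LocCoh.depth R M = ⨆ (rs : List R) (_ : RingTheory.Sequence.IsWeaklyRegular M rs ∧
      ∀ r ∈ rs, r ∈ IsLocalRing.maximalIdeal R), (rs.length : ℕ∞) := by
    show LocCoh.idealDepth (IsLocalRing.maximalIdeal R) M = _
    unfold LocCoh.idealDepth
    exact if_neg hne
  have hz := biUnion_associatedPrimes_eq_compl_regular R M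
  constructor
  · intro h hass
    have key : ∀ r ∈ IsLocalRing.maximalIdeal R, ¬ IsSMulRegular M r := fun r hr =>
      (hz.le (Set.mem_biUnion hass hr) : r ∈ {r : R | IsSMulRegular M r}ᶜ)
    refine absurd h (not_le.mpr (lt_of_le_of_lt (b := (0 : ℕ∞)) ?_ zero_lt_one))
    rw [hd]
    refine iSup₂_le fun rs hrs => ?_
    cases rs with
    | nil => simp
    | cons r rs =>
      exact absurd ((RingTheory.Sequence.isWeaklyRegular_cons_iff M r rs).mp hrs.1).1
        (key r (hrs.2 r (List.mem_cons_self ..)))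
  · intro h
    obtain ⟨r, hr, hreg⟩ : ∃ r ∈ IsLocalRing.maximalIdeal R, IsSMulRegular M r := by
      by_contra hc
      simp only [not_exists, not_and] at hc
      have hsub : (IsLocalRing.maximalIdeal R : Set R) ⊆ ⋃ p ∈ associatedPrimes R M, p := fun r hr =>
        hz.ge (hc r hr)
      obtain ⟨p, hp, hle⟩ := (Ideal.subset_union_prime_finite (associatedPrimes.finite R M) ⊥ ⊥
        (fun p hp _ _ => hp.isPrime)).mp hsub
      exact h ((IsLocalRing.maximalIdeal.isMaximal R).eq_of_le hp.isPrime.ne_top hle ▸ hp)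
    rw [hd]
    exact le_iSup₂_of_le [r] ⟨(RingTheory.Sequence.isWeaklyRegular_singleton_iff M r).mpr hreg,
      by simpa using hr⟩ (by simp)

theorem min_le_depth_iff :
    min (1 : WithBot ℕ∞) (Module.supportDim R M) ≤ ((LocCoh.depth R M : ℕ∞) : WithBot ℕ∞) ↔
      (IsAssociatedPrime (IsLocalRing.maximalIdeal R) M → IsTors R M) := by
  rcases subsingleton_or_nontrivial M with hM | hM
  · simp [Module.supportDim_eq_bot_of_subsingleton, IsTors, Subsingleton.elim _ (0 : M)]
  rw [isTors_iff]
  have hnb := Module.supportDim_ne_bot_of_nontrivial R M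
  by_cases ha : IsAssociatedPrime (IsLocalRing.maximalIdeal R) M
  · have hd0 : LocCoh.depth R M = 0 := ENat.lt_one_iff_eq_zero.mp (not_le.mp fun h => one_le_depth_iff.mp h ha)
    simp only [ha, hd0, forall_const, WithBot.coe_zero, min_le_iff]
    exact ⟨fun h => h.resolve_left (by norm_num), Or.inr⟩
  · simp only [ha, false_imp_iff, iff_true]
    exact (min_le_left _ _).trans (by exact_mod_cast one_le_depth_iff.mpr ha)

end Local

variable {X : Scheme.{u}}

theorem isTors_stalk_iff {M : X.Modules} [Coh.IsQCoh M] (x : X) :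
    IsTors (X.presheaf.stalk x) ((St x).obj M) ↔ ∀ y, Curv2.IsWeakAssPoint M y → y ⤳ x → y = x := by
  classical
  obtain ⟨U, hU, hxU⟩ := QCohLib.exists_affine_nhd x
  constructor
  · intro h y hy hyx
    have hyU : y ∈ U := hyx.mem_open U.isOpen hxU
    obtain ⟨s, hs⟩ := (weak_iff hU hyU).mp hy
    have hle : (hU.primeIdealOf ⟨y, hyU⟩).asIdeal ≤ (hU.primeIdealOf ⟨x, hxU⟩).asIdeal := by
      refine (PrimeSpectrum.le_iff_specializes _ _).mpr ?_
      have h' := hU.fromSpec.isOpenEmbedding.isInducing.specializes_iff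
        (x := hU.primeIdealOf ⟨y, hyU⟩) (y := hU.primeIdealOf ⟨x, hxU⟩)
      rw [hU.fromSpec_primeIdealOf, hU.fromSpec_primeIdealOf] at h'
      exact h'.mp hyx
    suffices hge : (hU.primeIdealOf ⟨x, hxU⟩).asIdeal ≤ (hU.primeIdealOf ⟨y, hyU⟩).asIdeal by
      have := congr_arg hU.fromSpec (PrimeSpectrum.ext (le_antisymm hle hge) :
        hU.primeIdealOf ⟨y, hyU⟩ = hU.primeIdealOf ⟨x, hxU⟩)
      rwa [hU.fromSpec_primeIdealOf, hU.fromSpec_primeIdealOf] at this
    intro b hb
    obtain ⟨n, hn⟩ := h (gm M x hxU s) _ (germ_mem_maximal hU hxU hb)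
    have h0 : gm M x hxU (b ^ n • s) = 0 := by rw [gm_smul, map_pow]; exact hn
    obtain ⟨t, ht, hts⟩ := (gm_eq_zero_iff hU x hxU _).mp h0
    haveI := (hU.primeIdealOf ⟨y, hyU⟩).2
    rw [← mul_smul] at hts
    exact Ideal.IsPrime.mem_of_pow_mem inferInstance n
      ((Ideal.IsPrime.mem_or_mem inferInstance (hs.le hts)).resolve_left fun h' => ht (hle h'))
  · intro h a r hr
    obtain ⟨v, s, hv, hs⟩ := exists_smul_eq_gm hU hxU a
    let p := (hU.primeIdealOf ⟨x, hxU⟩).asIdeal
    haveI : p.IsPrime := (hU.primeIdealOf ⟨x, hxU⟩).2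
    have key : ∀ b ∈ p, ∃ n : ℕ, gm M x hxU (b ^ n • s) = 0 := by
      intro b hb
      by_contra hc
      simp only [not_exists] at hc
      obtain ⟨q, hq, hqI, hqd⟩ := Ideal.exists_le_prime_disjoint (ann Γ(X, U) s)
        (p.primeCompl ⊔ Submonoid.powers b) (by
          rw [Set.disjoint_left]
          intro z hz hzS
          obtain ⟨t, ht, _, ⟨n, rfl⟩, rfl⟩ := Submonoid.mem_sup.mp hzS
          exact hc n ((gm_eq_zero_iff hU x hxU _).mpr ⟨t, ht, by rw [← mul_smul]; exact hz⟩))
      obtain ⟨q₀, hq₀, hq₀q⟩ := Ideal.exists_minimalPrimes_le hqI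
      have hqp : q ≤ p := fun z hz => by
        by_contra hzp
        exact Set.disjoint_left.mp hqd hz (Submonoid.mem_sup_left (show z ∈ p.primeCompl from hzp))
      let q' : PrimeSpectrum Γ(X, U) := ⟨q₀, hq₀.1.1⟩
      have hyU : hU.fromSpec q' ∈ U := by
        have : hU.fromSpec q' ∈ Set.range hU.fromSpec := ⟨q', rfl⟩
        rwa [hU.range_fromSpec] at this
      have hpr : hU.primeIdealOf ⟨hU.fromSpec q', hyU⟩ = q' :=
        hU.fromSpec.isOpenEmbedding.injective (hU.fromSpec_primeIdealOf ⟨_, hyU⟩)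
      have hsp : q' ⤳ hU.primeIdealOf ⟨x, hxU⟩ :=
        (PrimeSpectrum.le_iff_specializes _ _).mp (hq₀q.trans hqp)
      have hsp' := hsp.map hU.fromSpec.continuous
      rw [hU.fromSpec_primeIdealOf] at hsp'
      have heq := h _ ((weak_iff hU hyU).mpr ⟨s, by rw [hpr]; exact hq₀⟩) hsp'
      have hq' : q' = hU.primeIdealOf ⟨x, hxU⟩ :=
        hU.fromSpec.isOpenEmbedding.injective (heq.trans (hU.fromSpec_primeIdealOf ⟨x, hxU⟩).symm)
      exact Set.disjoint_left.mp hqd (hq₀q (show b ∈ q'.asIdeal by rw [hq']; exact hb))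
        (Submonoid.mem_sup_right (Submonoid.mem_powers b))
    let alg := X.presheaf.algebra_section_stalk (⟨x, hxU⟩ : U)
    have hloc : IsLocalization.AtPrime (X.presheaf.stalk x) p := hU.isLocalization_stalk ⟨x, hxU⟩
    obtain ⟨b, c, rfl⟩ := IsLocalization.exists_mk'_eq p.primeCompl r
    have hb : b ∈ p := (IsLocalization.AtPrime.mk'_mem_maximal_iff (X.presheaf.stalk x) p b c).mp hr
    obtain ⟨n, hn⟩ := key b hb
    refine ⟨n, hv.smul_eq_zero.mp ?_⟩
    rw [smul_comm, hs, IsLocalization.mk'_eq_mul_mk'_one, mul_pow, mul_comm, mul_smul]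
    have hn' : X.presheaf.germ U x hxU b ^ n • gm M x hxU s = 0 := by rw [← map_pow, ← gm_smul]; exact hn
    exact (congr_arg _ hn').trans (smul_zero _)

theorem noEmbedded_iff_S1 [IsLocallyNoetherian X] {F : X.Modules} (hF : Coh.IsCoh F) :
    (∀ x : X, Curv2.IsAssPoint F x → ∀ y : X, Curv2.IsAssPoint F y → y ⤳ x → y = x) ↔
      ∀ x : X, min (1 : WithBot ℕ∞) (Module.supportDim ↑(X.presheaf.stalk x) ↑(F.presheaf.stalk x)) ≤
        ((LocCoh.depth (X.presheaf.stalk x) (F.presheaf.stalk x) : ℕ∞) : WithBot ℕ∞) := by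
  haveI : Coh.IsQCoh F := hF.1
  refine forall_congr' fun x => ?_
  haveI : IsNoetherian (X.presheaf.stalk x) ((St x).obj F) := isNoetherian_stalk hF x
  haveI : IsNoetherianRing (X.presheaf.stalk x) := inferInstance
  refine Iff.trans ?_ (min_le_depth_iff (R := X.presheaf.stalk x) (M := (St x).obj F)).symm
  rw [show IsAssociatedPrime (IsLocalRing.maximalIdeal (X.presheaf.stalk x)) ((St x).obj F) ↔
    Curv2.IsAssPoint F x from Iff.rfl, isTors_stalk_iff]
  simp only [assPoint_iff_weak]

end AssPointLib
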