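import Groth.Agent.AssPointLib.Basic
import Groth.Agent.AssPointLib.Push
import Groth.Agent.QCohLib.QCoh
import Groth.Prelude.Def_FlatCA
import Mathlib.AlgebraicGeometry.Modules.Tilde

/-!
# Weakly associated points of tilde modules and of the structure sheaf
-/

set_option autoImplicit false

universe u

open CategoryTheory CategoryTheory.Limits AlgebraicGeometry TopologicalSpace Opposite

namespace AssPointLib

theorem weak_tilde {A : CommRingCat.{u}} (M : ModuleCat.{u} A) (p : Spec A) :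
    Curv2.IsWeakAssPoint (tilde M) p ↔ p.asIdeal ∈ FlatCA.weakAss A M := by
  haveI : Coh.IsQCoh (tilde M) := inferInstanceAs ((tilde M).IsQuasicoherent)
  let hU : IsAffineOpen (⊤ : (Spec A).Opens) := isAffineOpen_top _
  rw [weak_iff hU (Set.mem_univ p)]
  let σ : A ⟶ Γ(Spec A, ⊤) := (Scheme.ΓSpecIso A).inv
  have hσ : Function.Bijective σ := ConcreteCategory.bijective_of_isIso σ
  have he : Function.Bijective (tilde.toOpen M ⊤) := ConcreteCategory.bijective_of_isIso _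
  have hsm : ∀ (r : A) (m : M), σ r • (show Γ(tilde M, ⊤) from tilde.toOpen M ⊤ m) =
      (show Γ(tilde M, ⊤) from tilde.toOpen M ⊤ (r • m)) := fun r m => by
    refine Eq.trans ?_ ((tilde.toOpen M ⊤).hom.map_smul r m).symm
    refine Eq.trans ?_ (Scheme.Modules.smul_Spec_def r _).symm
    congr 1
  have hp : ∀ r : A, σ r ∈ (hU.primeIdealOf ⟨p, Set.mem_univ p⟩).asIdeal ↔ r ∈ p.asIdeal := fun r => by
    rw [← not_iff_not, ← mem_basicOpen_iff hU (Set.mem_univ p), basicOpen_eq_of_affine]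
    exact Iff.rfl
  haveI := (hU.primeIdealOf ⟨p, Set.mem_univ p⟩).2
  haveI := p.2
  have hz : ∀ (r : A) (m : M), σ r ∈ ann Γ(Spec A, ⊤) (show Γ(tilde M, ⊤) from tilde.toOpen M ⊤ m) ↔
      r ∈ ann A m := fun r m => by
    rw [mem_ann, mem_ann, hsm]
    exact ⟨fun h => he.1 (h.trans (map_zero (tilde.toOpen M ⊤).hom).symm),
      fun h => by rw [h]; exact map_zero (tilde.toOpen M ⊤).hom⟩
  have key : ∀ m : M, (hU.primeIdealOf ⟨p, Set.mem_univ p⟩).asIdeal ∈
      (ann Γ(Spec A, ⊤) (show Γ(tilde M, ⊤) from tilde.toOpen M ⊤ m)).minimalPrimes ↔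
      p.asIdeal ∈ (ann A m).minimalPrimes := by
    intro m
    rw [minimal_iff, minimal_iff]
    constructor
    · rintro ⟨h1, h2⟩
      refine ⟨fun r hr => (hp r).mp (h1 ((hz r m).mpr hr)), fun a ha => ?_⟩
      obtain ⟨t, ht, n, hn⟩ := h2 (σ a) ((hp a).mpr ha)
      obtain ⟨t, rfl⟩ := hσ.2 t
      exact ⟨t, fun h => ht ((hp t).mpr h), n, (hz _ m).mp (by rwa [map_mul, map_pow])⟩
    · rintro ⟨h1, h2⟩
      refine ⟨fun r hr => ?_, fun a ha => ?_⟩
      · obtain ⟨r, rfl⟩ := hσ.2 r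
        exact (hp r).mpr (h1 ((hz r m).mp hr))
      · obtain ⟨a, rfl⟩ := hσ.2 a
        obtain ⟨t, ht, n, hn⟩ := h2 a ((hp a).mp ha)
        exact ⟨σ t, fun h => ht ((hp t).mp h), n, by rw [← map_pow, ← map_mul]; exact (hz _ m).mpr hn⟩
  constructor
  · rintro ⟨s, hs⟩
    obtain ⟨m, rfl⟩ := he.2 s
    exact ⟨m, by rw [← ann_eq_annihilator_span]; exact (key m).mp hs⟩
  · rintro ⟨m, hm⟩
    exact ⟨_, (key m).mpr (by rwa [ann_eq_annihilator_span])⟩

variable {X : Scheme.{u}}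

theorem weak_structureModule_of_isReduced [IsReduced X] (x : X) :
    Curv2.IsWeakAssPoint (Coh.structureModule X) x ↔ ∀ y : X, y ⤳ x → y = x := by
  haveI : Coh.IsQCoh (Coh.structureModule X) := QCohLib.isQCoh_unit
  obtain ⟨U, hU, hxU⟩ := QCohLib.exists_affine_nhd x
  rw [weak_iff hU hxU]
  haveI := (hU.primeIdealOf ⟨x, hxU⟩).2
  have spec : ∀ q : PrimeSpectrum Γ(X, U), q.asIdeal ≤ (hU.primeIdealOf ⟨x, hxU⟩).asIdeal ↔
      hU.fromSpec q ⤳ x := fun q => by
    rw [PrimeSpectrum.asIdeal_le_asIdeal, PrimeSpectrum.le_iff_specializes]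
    have h := hU.fromSpec.isOpenEmbedding.isInducing.specializes_iff (x := q) (y := hU.primeIdealOf ⟨x, hxU⟩)
    rw [hU.fromSpec_primeIdealOf] at h
    exact h.symm
  constructor
  · rintro ⟨(s : Γ(X, U)), hs⟩ y hy
    obtain ⟨hle, hex⟩ := minimal_iff.mp hs
    have hann : ∀ c : Γ(X, U), c * s = 0 → c ∈ (hU.primeIdealOf ⟨x, hxU⟩).asIdeal := fun c hc => hle hc
    have hsq : s ∉ (hU.primeIdealOf ⟨x, hxU⟩).asIdeal := fun hsm => by
      obtain ⟨t, ht, n, hn⟩ := hex s hsm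
      refine ht (hann t ?_)
      refine (IsNilpotent.eq_zero ⟨n + 1, ?_⟩)
      have hn' : t * s ^ n * s = 0 := hn
      rw [mul_pow, show t ^ (n + 1) * s ^ (n + 1) = t ^ n * (t * s ^ n * s) by ring, hn', mul_zero]
    have hyU : y ∈ U := hy.mem_open U.isOpen hxU
    let q := hU.primeIdealOf ⟨y, hyU⟩
    have hqy : hU.fromSpec q = y := hU.fromSpec_primeIdealOf ⟨y, hyU⟩
    have hq : q.asIdeal ≤ (hU.primeIdealOf ⟨x, hxU⟩).asIdeal := (spec q).mpr (hqy ▸ hy)
    suffices (hU.primeIdealOf ⟨x, hxU⟩).asIdeal ≤ q.asIdeal by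
      rw [← hqy, show q = hU.primeIdealOf ⟨x, hxU⟩ from PrimeSpectrum.ext (le_antisymm hq this)]
      exact hU.fromSpec_primeIdealOf ⟨x, hxU⟩
    intro a ha
    obtain ⟨t, ht, n, hn⟩ := hex a ha
    have h0 : t * a ^ n * s = 0 := hn
    have h1 : t * a ^ n * s ∈ q.asIdeal := h0.symm ▸ q.asIdeal.zero_mem
    exact q.2.mem_of_pow_mem n
      ((q.2.mem_or_mem ((q.2.mem_or_mem h1).resolve_right fun h => hsq (hq h))).resolve_left
        fun h => ht (hq h))
  · intro h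
    refine ⟨(1 : Γ(X, U)), ⟨inferInstance, fun c hc => ?_⟩, fun q hq hle => ?_⟩
    · have : c * 1 = 0 := hc
      rw [mul_one] at this
      exact this ▸ Ideal.zero_mem _
    · haveI := hq.1
      have := h _ ((spec ⟨q, hq.1⟩).mp hle)
      have h' := hU.fromSpec.isOpenEmbedding.injective (this.trans (hU.fromSpec_primeIdealOf ⟨x, hxU⟩).symm)
      exact le_of_eq (congr_arg PrimeSpectrum.asIdeal h').symm

end AssPointLib
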